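import Cfsg.Agent.Lib.SymplecticThree.ModelFacts
import Mathlib.GroupTheory.Index
import Mathlib.GroupTheory.Subgroup.Centralizer
import Mathlib.GroupTheory.OrderOfElement
import Mathlib.Algebra.Group.Subgroup.Finite
import Mathlib.SetTheory.Cardinal.Finite

/-!
# Groups with an involution centraliser isomorphic to the model

`Data G` records an embedding of the model onto the centraliser of an involution of a group without
subgroups of index 2; `Norm G` chooses the embedding so that the swap is fused to the central
involution.
-/

set_option autoImplicit false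

namespace CfsgLib.SymplecticThree

universe u

/-- The elementary abelian subgroup of order 16 of the model. -/
def M.EM : Subgroup M where
  carrier := {m | M.isE m = true}
  one_mem' := M.isE_one
  mul_mem' := fun ha hb => (M.isE_mul _ _ ha hb).1
  inv_mem' := fun {a} ha => by
    change M.isE a⁻¹ = true
    rw [inv_eq_of_mul_eq_one_right (M.isE_mul a a ha ha).2.2]
    exact ha

@[simp] theorem M.mem_EM {m : M} : m ∈ M.EM ↔ M.isE m = true := Iff.rfl

/-- An embedding of the model onto an involution centraliser. -/
structure Data (G : Type u) [Group G] where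
  ψ : M →* G
  inj : Function.Injective ψ
  surj : ∀ g : G, g * ψ M.t = ψ M.t * g → ∃ m, ψ m = g
  noTwo : ∀ H : Subgroup G, H.index ≠ 2

/-- An embedding in which the swap is conjugate to the central involution. -/
structure Norm (G : Type u) [Group G] extends Data G where
  fused : IsConj (ψ M.t) (ψ M.s)

namespace Data

variable {G : Type u} [Group G] (D : Data G)

/-- The involution whose centraliser is given. -/
def z : G := D.ψ M.t

/-- The elementary abelian subgroup of order 16. -/
def E : Subgroup G := M.EM.map D.ψ

/-- The conjugates of the given involution. -/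
def Pt : Set G := {g | IsConj D.z g}

theorem z_mul_self : D.z * D.z = 1 := by
  rw [z, ← map_mul, M.t_spec.1, map_one]

theorem z_ne_one : D.z ≠ 1 := by
  rw [z, ← map_one D.ψ]
  exact fun e => M.t_spec.2.1 (D.inj e)

theorem orderOf_z : orderOf D.z = 2 :=
  orderOf_eq_prime (by rw [pow_two, D.z_mul_self]) D.z_ne_one

theorem psi_comm (m : M) : D.ψ m * D.z = D.z * D.ψ m := by
  rw [z, ← map_mul, ← map_mul, (M.t_spec.2.2 m)]

theorem centralizer_z : Subgroup.centralizer ({D.z} : Set G) = D.ψ.range := by
  ext g
  rw [Subgroup.mem_centralizer_singleton_iff, MonoidHom.mem_range]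
  exact ⟨fun h => D.surj g h, fun ⟨m, hm⟩ => hm ▸ D.psi_comm m⟩

theorem card_centralizer_z : Nat.card (Subgroup.centralizer ({D.z} : Set G)) = 576 := by
  rw [D.centralizer_z, ← Nat.card_congr (MonoidHom.ofInjective D.inj).toEquiv,
    Nat.card_eq_fintype_card, M.card]

theorem mem_E {g : G} : g ∈ D.E ↔ ∃ m, M.isE m = true ∧ D.ψ m = g := by
  simp [E, Subgroup.mem_map]

theorem psi_mem_E {m : M} : D.ψ m ∈ D.E ↔ M.isE m = true := by
  rw [mem_E]
  exact ⟨fun ⟨k, hk, e⟩ => D.inj e ▸ hk, fun h => ⟨m, h, rfl⟩⟩

theorem z_mem_E : D.z ∈ D.E := D.psi_mem_E.2 M.isE_basic.1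

theorem card_E : Nat.card D.E = 16 := by
  rw [E, Subgroup.card_map_of_injective D.inj]
  show Nat.card {m : M // M.isE m = true} = 16
  rw [Nat.card_eq_fintype_card, Fintype.card_subtype]
  exact M.card_isE

end Data

end CfsgLib.SymplecticThree
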