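import Mathlib.Algebra.Group.Defs
import Mathlib.Algebra.Group.Basic
import Mathlib.Data.Fintype.Prod
import Mathlib.Data.Fintype.Card
import Mathlib.Data.Fintype.EquivFin
import Mathlib.Tactic.Group

/-!
# A model of the centraliser of a 2-central involution of `PSp₄(3)`

`M` is the group of permutations `x ↦ c * b * x ^ (±1) * b⁻¹` of `SL₂(3)`, of order 576. The elements
of `SL₂(3)` are numbered so that `g + 12` is `-g`; a row-major entry table is `matTab`.
-/

set_option autoImplicit false

namespace CfsgLib.SymplecticThree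

/-- Multiplication table of `SL₂(3)`. -/
def mulTab : Nat := 0x89a0768983aaa8b2c8930b80f4d91784ca663c22a5d2a21e3200dae42eb63c2451b1c15d2c9990d17804dba155314e4104605256894670735ecb56f4131a3552ab342277002fb2137910b378582ba68a996061b40e5d5163c49263861a5969848e5009ed42af521a7108c404ad4829cc46bdccaded48ce50a554b844c763443426d721653005cf4d2ea2c2660b1e2aa176890f26806eb2e8991e0570d8155d1534c9113c0d5a928398a418820bdab49ca307b9ac2c8930b80f4d91789a0768983aaa8b21e3200dae42eb684ca663c22a5d2a990d17804dba1553c2451b1c15d2c994670735ecb56f4314e410460525687002fb2137910b3131a3552ab342271b40e5d5163c49278582ba68a99606009ed42af521a7163861a5969848e56bdccaded48ce5008c404ad4829cc4426d721653005cfa554b844c763443aa176890f26806e4d2ea2c2660b1e255d1534c9113c0db2e8991e0570d81bdab49ca307b9ac5a928398a418820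

/-- Inversion table. -/
def invTab : Nat := 0x29cd0525741882c8ce44b56e87b9a0

/-- The four entries of each matrix, two bits each. -/
def matTab : Nat := 0x25a264866126a48aa96a24821a5198499219584556951841

/-- `SL₂(3)` as a group on 24 codes. -/
structure S where
  val : Fin 24
deriving DecidableEq

namespace S

def equivFin : S ≃ Fin 24 := ⟨S.val, S.mk, fun _ => rfl, fun _ => rfl⟩

instance : Fintype S := Fintype.ofEquiv (Fin 24) equivFin.symm

instance : One S := ⟨⟨0⟩⟩

instance : Mul S :=
  ⟨fun a b => ⟨⟨((mulTab >>> (5 * (24 * a.val.1 + b.val.1))) &&& 31) % 24, Nat.mod_lt _ (by decide)⟩⟩⟩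

instance : Inv S := ⟨fun a => ⟨⟨((invTab >>> (5 * a.val.1)) &&& 31) % 24, Nat.mod_lt _ (by decide)⟩⟩⟩

theorem assoc_check : ∀ a b c : S, a * b * c = a * (b * c) := by decide +kernel

theorem one_check : ∀ a : S, 1 * a = a ∧ a * 1 = a ∧ a⁻¹ * a = 1 := by decide +kernel

instance : Group S where
  mul_assoc := assoc_check
  one_mul a := (one_check a).1
  mul_one a := (one_check a).2.1
  inv_mul_cancel a := (one_check a).2.2

/-- The representative of `±g`. -/
def norm (g : S) : Fin 12 := ⟨g.val.1 % 12, Nat.mod_lt _ (by decide)⟩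

/-- The chosen lift of a class modulo `±1`. -/
def lift (b : Fin 12) : S := ⟨⟨b.1, Nat.lt_of_lt_of_le b.2 (by decide)⟩⟩

theorem norm_lift : ∀ b : Fin 12, norm (lift b) = b := by decide +kernel

theorem norm_mul_left : ∀ a b : S, norm (lift (norm a) * b) = norm (a * b) := by decide +kernel

theorem norm_mul_right : ∀ a b : S, norm (a * lift (norm b)) = norm (a * b) := by decide +kernel

/-- Conjugation. -/
def cj (b x : S) : S := b * x * b⁻¹

theorem cj_norm : ∀ a b : S, cj (lift (norm a)) b = cj a b := by decide +kernel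

theorem cj_one (x : S) : cj 1 x = x := by simp [cj]

theorem cj_mul (a b x : S) : cj (a * b) x = cj a (cj b x) := by unfold cj; group

theorem cj_map (b x y : S) : cj b (x * y) = cj b x * cj b y := by unfold cj; group

theorem cj_inv (b x : S) : cj b x⁻¹ = (cj b x)⁻¹ := by unfold cj; group

end S

open S

/-- The permutations `x ↦ c * b * x ^ (±1) * b⁻¹`. -/
structure M where
  c : S
  b : Fin 12
  e : Bool
deriving DecidableEq

namespace M

def equivProd : M ≃ S × Fin 12 × Bool :=
  ⟨fun m => (m.c, m.b, m.e), fun p => ⟨p.1, p.2.1, p.2.2⟩, fun _ => rfl, fun _ => rfl⟩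

instance : Fintype M := Fintype.ofEquiv (S × Fin 12 × Bool) equivProd.symm

theorem card : Fintype.card M = 576 := by
  rw [Fintype.card_congr equivProd]
  simp [Fintype.card_congr S.equivFin]

/-- `x ↦ x ^ (±1)`. -/
def pw (e : Bool) (x : S) : S := if e then x⁻¹ else x

/-- The permutation given by an element. -/
def act (m : M) (x : S) : S := m.c * cj (lift m.b) (pw m.e x)

instance : One M := ⟨⟨1, norm 1, false⟩⟩

instance : Mul M :=
  ⟨fun m n => ⟨m.c * cj (lift m.b) (pw m.e n.c),
    norm (if m.e then lift m.b * n.c * lift n.b else lift m.b * lift n.b), m.e != n.e⟩⟩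

instance : Inv M :=
  ⟨fun m => ⟨if m.e then cj (lift m.b)⁻¹ m.c else (cj (lift m.b)⁻¹ m.c)⁻¹,
    norm (if m.e then (lift m.b)⁻¹ * m.c⁻¹ else (lift m.b)⁻¹), m.e⟩⟩

theorem act_mul (m n : M) (x : S) : act (m * n) x = act m (act n x) := by
  obtain ⟨c₁, b₁, e₁⟩ := m
  obtain ⟨c₂, b₂, e₂⟩ := n
  change c₁ * cj (lift b₁) (pw e₁ c₂) *
      cj (lift (norm (if e₁ then lift b₁ * c₂ * lift b₂ else lift b₁ * lift b₂))) (pw (e₁ != e₂) x) =
    c₁ * cj (lift b₁) (pw e₁ (c₂ * cj (lift b₂) (pw e₂ x)))
  rw [cj_norm]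
  cases e₁ <;> cases e₂ <;> simp [pw, cj] <;> group

theorem act_one (x : S) : act 1 x = x := by
  change 1 * cj (lift (norm 1)) x = x
  rw [cj_norm, cj_one, one_mul]

theorem inv_check : ∀ m : M, m⁻¹ * m = 1 ∧ m * 1 = m ∧ 1 * m = m := by decide +kernel

theorem cj_lift_injective : ∀ b₁ b₂ : Fin 12,
    (∀ x, cj (lift b₁) x = cj (lift b₂) x) → b₁ = b₂ := by decide +kernel

theorem e_check : ∀ m n : M, (∀ x, act m x = act n x) → m.e = n.e → m = n := by
  intro m n h he
  have hc : m.c = n.c := by
    have := h 1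
    simpa [act, pw, cj] using this
  refine (M.mk.injEq ..).mpr ⟨hc, cj_lift_injective _ _ fun x => ?_, he⟩
  have := h (pw m.e x)
  simp only [act, hc, ← he, mul_right_inj] at this
  cases hm : m.e <;> simpa [pw, hm] using this

theorem assoc (m n p : M) : m * n * p = m * (n * p) :=
  e_check _ _ (fun x => by simp only [act_mul]) (by
    change ((m.e != n.e) != p.e) = (m.e != (n.e != p.e))
    cases m.e <;> cases n.e <;> cases p.e <;> rfl)

instance : Group M where
  mul_assoc := assoc
  one_mul a := (inv_check a).2.2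
  mul_one a := (inv_check a).2.1
  inv_mul_cancel a := (inv_check a).1

/-- The central involution `x ↦ -x`. -/
def t : M := ⟨⟨12⟩, 0, false⟩

/-- The swap `x ↦ x⁻¹`. -/
def s : M := ⟨1, 0, true⟩

/-- A noncentral involution of the normal subgroup, `x ↦ i * x * i⁻¹`. -/
def v : M := ⟨1, 1, false⟩

/-- Membership of the elementary abelian subgroup of order 16. -/
def isE (m : M) : Bool := (m.c == 1 || m.c == ⟨12⟩) && decide (m.b.1 < 4)

/-- The involutions fused to `t`: `t` and the conjugates of `s`. -/
def isT (m : M) : Bool :=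
  m == t || (m.e && m.c * lift m.b * lift m.b == 1 && decide (m * m = 1))

end M

end CfsgLib.SymplecticThree
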