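import Cfsg.Agent.Lib.SymplecticThree.Model
import Mathlib.Data.Fintype.Basic

/-!
# Finite facts about the model
-/

set_option autoImplicit false

namespace CfsgLib.SymplecticThree.M

open CfsgLib.SymplecticThree

theorem t_spec : t * t = 1 ∧ t ≠ 1 ∧ ∀ m : M, t * m = m * t := by decide +kernel

theorem center_eq : ∀ m : M, (∀ n : M, m * n = n * m) → m = 1 ∨ m = t := by decide +kernel

theorem s_spec : s * s = 1 ∧ s ≠ 1 ∧ s ≠ t ∧ isT s = true ∧ isT t = true ∧ isT (t * s) = false ∧
    isT v = false ∧ v * v = 1 ∧ v ≠ 1 ∧ v ≠ t := by decide +kernel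

theorem isE_one : isE 1 = true := by decide +kernel

theorem isE_mul : ∀ a b : M, isE a = true → isE b = true → isE (a * b) = true ∧ a * b = b * a ∧ a * a = 1 := by
  decide +kernel

theorem isE_basic : isE t = true ∧ isE s = true ∧ isE v = true := by decide +kernel

theorem card_isE : (Finset.univ.filter fun m => isE m = true).card = 16 := by decide +kernel

theorem card_isT : (Finset.univ.filter fun m => isT m = true).card = 13 := by decide +kernel

theorem card_involutions : (Finset.univ.filter fun m : M => m * m = 1 ∧ m ≠ 1).card = 43 := by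
  decide +kernel

theorem card_isT_isE : (Finset.univ.filter fun m => isE m = true ∧ isT m = true).card = 5 := by
  decide +kernel

theorem isT_invol : ∀ m : M, isT m = true → m * m = 1 ∧ m ≠ 1 := by decide +kernel

theorem cent_E : ∀ m : M, (∀ a : M, isE a = true → m * a = a * m) → isE m = true := by decide +kernel

theorem card_normalizer_E :
    (Finset.univ.filter fun m : M => ∀ a : M, isE a = true → isE (m * a * m⁻¹) = true).card = 192 := by
  decide +kernel

end CfsgLib.SymplecticThree.M

namespace CfsgLib.SymplecticThree.M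

open CfsgLib.SymplecticThree

/-- A Sylow 2-subgroup of the model. -/
def isSyl (m : M) : Bool := decide (m.c.val.1 % 12 < 4) && decide (m.b.1 < 4)

theorem isSyl_mul : isSyl 1 = true ∧ isSyl t = true ∧ ∀ a : M, isSyl a = true → ∀ b : M, isSyl b = true →
    isSyl (a * b) = true := by decide +kernel

theorem card_isSyl : (Finset.univ.filter fun m => isSyl m = true).card = 64 := by decide +kernel

theorem cent_syl : ∀ m : M, (∀ a : M, isSyl a = true → m * a = a * m) → m = 1 ∨ m = t := by
  decide +kernel

theorem isE_syl : ∀ m : M, isE m = true → isSyl m = true := by decide +kernel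

theorem outer_conj : ∀ u : M, u * u = 1 → u.e = true →
    ∃ m : M, m * u * m⁻¹ = s ∨ m * u * m⁻¹ = t * s := by decide +kernel

theorem cent_outer : ∀ x : M, x * x = 1 →
    (x * s = s * x ∨ x * (t * s) = t * s * x) → isE x = true := by decide +kernel

theorem inner_conj : ∀ u : M, u * u = 1 → u ≠ 1 → u ≠ t → u.e = false →
    ∃ m : M, m * u * m⁻¹ = v := by decide +kernel

theorem cent_inner_card :
    (Finset.univ.filter fun x : M => x * x = 1 ∧ x.e = false ∧ x * v = v * x).card < 16 := by
  decide +kernel

theorem involution_cases : ∀ u : M, u * u = 1 → u ≠ 1 →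
    u = t ∨ (isT u = true ∧ ∃ m : M, m * u * m⁻¹ = s) ∨
      (isT u = false ∧ ((∃ m : M, m * u * m⁻¹ = v) ∨ ∃ m : M, m * u * m⁻¹ = t * s)) := by
  decide +kernel

theorem isT_E : ∀ m : M, isE m = true → isT m = true →
    m = t ∨ ∃ k : M, (∀ a : M, isE a = true → isE (k * a * k⁻¹) = true) ∧ k * s * k⁻¹ = m := by
  decide +kernel

theorem isE_v_conj : ∀ m : M, isE m = true → isT m = true → m ≠ t → isT (t * m) = false ∧ t * m ≠ 1 := by
  decide +kernel

theorem odd_elements : ∀ m : M, m ^ 9 = 1 → m.e = false := by decide +kernel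

theorem e_mul : ∀ a : M, ∀ b : M, (a * b).e = (a.e != b.e) := fun _ _ => rfl

end CfsgLib.SymplecticThree.M

namespace CfsgLib.SymplecticThree.M

open CfsgLib.SymplecticThree

theorem six_spec : ∀ u : M, isE u = true → u.e = false → u ≠ 1 → u ≠ t →
    isE (t * u) = true ∧ t * u ≠ 1 ∧ t * u ≠ t ∧
      ∃ k : M, (∀ a : M, isE a = true → isE (k * a * k⁻¹) = true) ∧ k * v * k⁻¹ = u := by decide +kernel

theorem outer_E_conj : ∀ u : M, isE u = true → u.e = true →
    ∃ k : M, (∀ a : M, isE a = true → isE (k * a * k⁻¹) = true) ∧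
      (k * s * k⁻¹ = u ∨ k * (t * s) * k⁻¹ = u) := by decide +kernel

theorem involution_conj : ∀ u : M, u * u = 1 → u ≠ 1 →
    u = t ∨ ∃ k : M, k * u * k⁻¹ = v ∨ k * u * k⁻¹ = s ∨ k * u * k⁻¹ = t * s := by decide +kernel

theorem pair_sum : ∀ x : M, isE x = true → isT x = true → x ≠ t → ∀ y : M, isE y = true → isT y = true →
    y ≠ t → x ≠ y → (x * y).e = false ∧ x * y ≠ 1 ∧ x * y ≠ t := by decide +kernel

end CfsgLib.SymplecticThree.M
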